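import Mathlib

/-!
# The staircase basis of a polynomial ring over the symmetric polynomials
-/

set_option autoImplicit false
noncomputable section

universe u

open MvPolynomial

namespace Groth.Agent.Staircase

/-- Staircase exponents. -/
abbrev D (n : ℕ) : Type := Π i : Fin n, Fin (n - (i : ℕ))

variable (n : ℕ) (R : Type u) [CommRing R]

/-- The elementary symmetric polynomials of positive degree. -/
abbrev e (i : Fin n) : MvPolynomial (Fin n) R := esymm (Fin n) R ((i : ℕ) + 1)

/-- The combination of staircase monomials. -/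
def comb (p : D n → MvPolynomial (Fin n) R) : MvPolynomial (Fin n) R :=
  ∑ d : D n, aeval (e n R) (p d) * ∏ i : Fin n, X i ^ (d i : ℕ)

theorem esymm_cons_succ {A : Type*} [CommRing A] (a : A) (s : Multiset A) (k : ℕ) :
    (a ::ₘ s).esymm (k + 1) = s.esymm (k + 1) + a * s.esymm k := by
  simp [Multiset.esymm, Multiset.powersetCard_cons, Multiset.map_map, Function.comp_def,
    Multiset.sum_map_mul_left]

/-- The rest variables' symmetric functions, extended by zero. -/
def f (k : ℕ) : MvPolynomial (Fin n) (Polynomial R) := esymm (Fin n) (Polynomial R) k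

theorem f_zero : f n R 0 = 1 := esymm_zero _ _

theorem f_top : f n R (n + 1) = 0 := by
  rw [f, esymm, Finset.powersetCard_eq_empty.2 (by simp), Finset.sum_empty]

/-- The symmetric algebra generators map. -/
def φ : MvPolynomial (Fin (n + 1)) R →ₐ[R] MvPolynomial (Fin n) (Polynomial R) :=
  aeval fun i : Fin (n + 1) => (X' i) where
  X' (i : Fin (n + 1)) : MvPolynomial (Fin n) (Polynomial R) :=
    (if h : (i : ℕ) < n then X ⟨i, h⟩ else 0) +
      C Polynomial.X * (if h : 0 < (i : ℕ) then X ⟨(i : ℕ) - 1, by omega⟩ else 1)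

/-- `e_k`, with `e_0 = 1`. -/
def ee (k : ℕ) : MvPolynomial (Fin (n + 1)) R :=
  if k = 0 then 1 else if h : k - 1 < n + 1 then X ⟨k - 1, h⟩ else 0

/-- `f_k`, with `f_0 = 1`, zero above `n`. -/
def ff (k : ℕ) : MvPolynomial (Fin n) (Polynomial R) :=
  if k = 0 then 1 else if h : k - 1 < n then X ⟨k - 1, h⟩ else 0

theorem φ_ee (k : ℕ) (hk : k ≤ n) :
    φ n R (ee n R (k + 1)) = ff n R (k + 1) + C Polynomial.X * ff n R k := by
  rw [ee, if_neg k.succ_ne_zero, dif_pos (show k + 1 - 1 < n + 1 by omega), φ, aeval_X, φ.X']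
  simp only [Nat.add_sub_cancel, ff, if_neg k.succ_ne_zero]
  congr 2
  rcases Nat.eq_zero_or_pos k with rfl | h
  · simp
  · rw [dif_pos h, if_neg h.ne', dif_pos (show k - 1 < n by omega)]

/-- The monic polynomial whose root is the first variable. -/
def F : Polynomial (MvPolynomial (Fin (n + 1)) R) :=
  Polynomial.X ^ (n + 1) + ∑ j : Fin (n + 1), Polynomial.C ((-1) ^ (n + 1 - (j : ℕ)) * ee n R (n + 1 - j)) *
    Polynomial.X ^ (j : ℕ)

theorem F_degree [Nontrivial R] :
    (∑ j : Fin (n + 1), Polynomial.C ((-1) ^ (n + 1 - (j : ℕ)) * ee n R (n + 1 - j)) *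
      (Polynomial.X : Polynomial (MvPolynomial (Fin (n + 1)) R)) ^ (j : ℕ)).degree < ((n + 1 : ℕ) : WithBot ℕ) :=
  (Polynomial.degree_sum_le _ _).trans_lt ((Finset.sup_lt_iff (WithBot.bot_lt_coe _)).2 fun j _ =>
    (Polynomial.degree_C_mul_X_pow_le _ _).trans_lt (WithBot.coe_lt_coe.2 j.2))

theorem F_monic [Nontrivial R] : (F n R).Monic := Polynomial.monic_X_pow_add (F_degree n R)

theorem F_natDegree [Nontrivial R] : (F n R).natDegree = n + 1 := by
  apply Polynomial.natDegree_eq_of_degree_eq_some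
  rw [F, Polynomial.degree_add_eq_left_of_degree_lt (by rw [Polynomial.degree_X_pow]; exact F_degree n R),
    Polynomial.degree_X_pow]

theorem sum_range_F {A : Type*} [CommRing A] (g : ℕ → A) (t : A) :
    t ^ (n + 1) * g 0 + ∑ j : Fin (n + 1), ((-1) ^ (n + 1 - (j : ℕ)) * g (n + 1 - j)) * t ^ (j : ℕ) =
      ∑ i ∈ Finset.range (n + 2), (-1) ^ i * g i * t ^ (n + 1 - i) := by
  rw [Fin.sum_univ_eq_sum_range (fun j => ((-1) ^ (n + 1 - j) * g (n + 1 - j)) * t ^ j) (n + 1),
    Finset.sum_range_succ' _ (n + 1), add_comm, ← Finset.sum_range_reflect _ (n + 1)]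
  simp only [pow_zero, one_mul, Nat.sub_zero]
  refine congrArg₂ (· + ·) (Finset.sum_congr rfl fun i hi => ?_) (mul_comm _ _)
  rw [Finset.mem_range] at hi
  rw [show n + 1 - (n + 1 - 1 - i) = i + 1 by omega, show n + 1 - 1 - i = n + 1 - (i + 1) by omega]

theorem F_eval {A : Type*} [CommRing A] (g : MvPolynomial (Fin (n + 1)) R →+* A) (t : A) :
    (F n R).eval₂ g t = ∑ i ∈ Finset.range (n + 2), (-1) ^ i * g (ee n R i) * t ^ (n + 1 - i) := by
  rw [← sum_range_F n (fun k => g (ee n R k)) t, F, Polynomial.eval₂_add, Polynomial.eval₂_finsetSum,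
    Polynomial.eval₂_pow, Polynomial.eval₂_X]
  have h0 : g (ee n R 0) = 1 := by rw [ee, if_pos rfl, map_one]
  rw [h0, mul_one]
  refine congrArg (t ^ (n + 1) + ·) (Finset.sum_congr rfl fun j _ => ?_)
  rw [Polynomial.eval₂_mul, Polynomial.eval₂_C, Polynomial.eval₂_pow, Polynomial.eval₂_X, map_mul, map_pow,
    map_neg, map_one]

theorem φ_root : (F n R).eval₂ (φ n R).toRingHom (C Polynomial.X) = 0 := by
  rw [F_eval, Finset.sum_range_succ']
  let T : MvPolynomial (Fin n) (Polynomial R) := C Polynomial.X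
  let s : ℕ → MvPolynomial (Fin n) (Polynomial R) := fun i => (-1) ^ i * ff n R i * T ^ (n + 1 - i)
  have hstep : ∀ i ∈ Finset.range (n + 1), (-1) ^ (i + 1) * (φ n R).toRingHom (ee n R (i + 1)) *
      (C Polynomial.X : MvPolynomial (Fin n) (Polynomial R)) ^ (n + 1 - (i + 1)) = s (i + 1) - s i := by
    intro i hi
    rw [Finset.mem_range] at hi
    show (-1) ^ (i + 1) * φ n R (ee n R (i + 1)) * T ^ (n + 1 - (i + 1)) = _
    rw [φ_ee n R i (by omega)]
    simp only [s, T]
    rw [show n + 1 - i = n + 1 - (i + 1) + 1 by omega]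
    simp only [pow_succ]
    ring
  rw [Finset.sum_congr rfl hstep, Finset.sum_range_sub s]
  have h1 : ff n R (n + 1) = 0 := by rw [ff, if_neg (Nat.succ_ne_zero n), dif_neg (by omega)]
  have h2 : ff n R 0 = 1 := by rw [ff, if_pos rfl]
  have h3 : ee n R 0 = 1 := by rw [ee, if_pos rfl]
  simp only [s, T, h1, h2, h3, map_one, pow_zero, Nat.sub_zero, one_mul, mul_zero, zero_mul, zero_sub, mul_one]
  rw [neg_add_cancel]

variable [Nontrivial R]

/-- The candidate inverse image of `f_k`. -/
def fi (k : ℕ) : AdjoinRoot (F n R) :=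
  ∑ j ∈ Finset.range (k + 1), AdjoinRoot.of (F n R) (ee n R (k - j)) * (-AdjoinRoot.root (F n R)) ^ j

omit [Nontrivial R] in
theorem fi_succ (k : ℕ) : fi n R (k + 1) = AdjoinRoot.of (F n R) (ee n R (k + 1)) - AdjoinRoot.root (F n R) * fi n R k := by
  rw [fi, Finset.sum_range_succ', fi, Finset.mul_sum, sub_eq_neg_add, ← Finset.sum_neg_distrib]
  refine congrArg₂ (· + ·) (Finset.sum_congr rfl fun j _ => ?_) (by simp)
  rw [Nat.add_sub_add_right, pow_succ]; ring

omit [Nontrivial R] in
theorem fi_top : fi n R (n + 1) = 0 := by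
  have h0 : _ = (0 : AdjoinRoot (F n R)) := (F_eval n R (AdjoinRoot.of (F n R)) (AdjoinRoot.root (F n R))).symm.trans
    (AdjoinRoot.eval₂_root (F n R))
  rw [← mul_zero ((-1 : AdjoinRoot (F n R)) ^ (n + 1)), ← h0, Finset.mul_sum, fi,
    ← Finset.sum_range_reflect _ (n + 1 + 1)]
  refine Finset.sum_congr rfl fun i hi => ?_
  rw [Finset.mem_range] at hi
  rw [show n + 1 + 1 - 1 - i = n + 1 - i by omega, show n + 1 - (n + 1 - i) = i by omega, neg_pow,
    show ((-1) ^ (n + 1) : AdjoinRoot (F n R)) = (-1) ^ (n + 1 - i) * (-1) ^ i by rw [← pow_add]; congr 1; omega]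
  have h2 : ((-1 : AdjoinRoot (F n R)) ^ i) * (-1) ^ i = 1 := by rw [← mul_pow, neg_mul_neg, one_mul, one_pow]
  linear_combination (-(AdjoinRoot.of (F n R) (ee n R i) * AdjoinRoot.root (F n R) ^ (n + 1 - i) * (-1) ^ (n + 1 - i))) * h2

/-- Forward map. -/
def fwd : AdjoinRoot (F n R) →+* MvPolynomial (Fin n) (Polynomial R) :=
  AdjoinRoot.lift (φ n R).toRingHom (C Polynomial.X) (φ_root n R)

/-- Backward map. -/
def bwd : MvPolynomial (Fin n) (Polynomial R) →+* AdjoinRoot (F n R) :=
  eval₂Hom (Polynomial.eval₂RingHom ((AdjoinRoot.of (F n R)).comp C) (AdjoinRoot.root (F n R)))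
    fun i : Fin n => fi n R ((i : ℕ) + 1)

omit [Nontrivial R] in
theorem bwd_T : bwd n R (C Polynomial.X) = AdjoinRoot.root (F n R) := by simp [bwd]

omit [Nontrivial R] in
theorem bwd_ff (k : ℕ) (hk : k ≤ n + 1) : bwd n R (ff n R k) = fi n R k := by
  rcases Nat.eq_zero_or_pos k with rfl | hpos
  · simp [ff, fi, ee]
  by_cases hkn : k = n + 1
  · subst hkn; rw [fi_top]; simp [ff]
  · rw [ff, if_neg hpos.ne', dif_pos (show k - 1 < n by omega), bwd, eval₂Hom_X']
    simp only
    rw [Nat.sub_add_cancel hpos]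

omit [Nontrivial R] in
theorem fwd_fi (k : ℕ) (hk : k ≤ n + 1) : fwd n R (fi n R k) = ff n R k := by
  induction k with
  | zero => simp [fi, ee, ff, fwd]
  | succ k ih =>
    have h1 : fwd n R (AdjoinRoot.of (F n R) (ee n R (k + 1))) = φ n R (ee n R (k + 1)) :=
      AdjoinRoot.lift_of (φ_root n R)
    have h2 : fwd n R (AdjoinRoot.root (F n R)) = C Polynomial.X := AdjoinRoot.lift_root (φ_root n R)
    rw [fi_succ, map_sub, map_mul, ih (by omega), h1, h2, φ_ee n R k (by omega), add_sub_cancel_right]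

omit [Nontrivial R] in
theorem fwd_bwd : (fwd n R).comp (bwd n R) = RingHom.id _ := by
  refine MvPolynomial.ringHom_ext (fun r => ?_) fun i => ?_
  · have : ((fwd n R).comp (bwd n R)).comp C = (C : Polynomial R →+* MvPolynomial (Fin n) (Polynomial R)) := by
      refine Polynomial.ringHom_ext (fun a => ?_) ?_
      · simp [bwd, fwd, φ]
      · simp only [RingHom.comp_apply, bwd_T, fwd, AdjoinRoot.lift_root]
    exact RingHom.congr_fun this r
  · rw [RingHom.comp_apply, bwd, eval₂Hom_X', fwd_fi n R _ (by omega), RingHom.id_apply, ff,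
      if_neg (Nat.succ_ne_zero _), dif_pos (show (i : ℕ) + 1 - 1 < n by omega)]
    rfl

omit [Nontrivial R] in
theorem bwd_fwd : (bwd n R).comp (fwd n R) = RingHom.id _ := by
  refine AdjoinRoot.ringHom_ext ?_ ?_
  · refine MvPolynomial.ringHom_ext (fun r => ?_) fun i => ?_
    · simp [bwd, fwd, φ]
    · simp only [RingHom.comp_apply, fwd, AdjoinRoot.lift_of, RingHom.id_apply]
      have hX : (X i : MvPolynomial (Fin (n + 1)) R) = ee n R ((i : ℕ) + 1) := by
        simp [ee, i.2]
      rw [hX]
      show bwd n R (φ n R (ee n R ((i : ℕ) + 1))) = _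
      rw [φ_ee n R _ (by omega), map_add, map_mul, bwd_T, bwd_ff n R _ (by omega), bwd_ff n R _ (by omega), fi_succ,
        sub_add_cancel]
  · simp only [RingHom.comp_apply, fwd, AdjoinRoot.lift_root, bwd_T, RingHom.id_apply]

/-- The one-variable step. -/
theorem step_bijective : Function.Bijective fun p : Fin (n + 1) → MvPolynomial (Fin (n + 1)) R =>
    ∑ j : Fin (n + 1), φ n R (p j) * C Polynomial.X ^ (j : ℕ) := by
  let pb := AdjoinRoot.powerBasis' (F_monic n R)
  have hdim : pb.dim = n + 1 := F_natDegree n R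
  let b := pb.basis.reindex (finCongr hdim)
  have hfwd : Function.Bijective (fwd n R) :=
    Function.bijective_iff_has_inverse.2 ⟨bwd n R, RingHom.congr_fun (bwd_fwd n R), RingHom.congr_fun (fwd_bwd n R)⟩
  have hfun : (fun p : Fin (n + 1) → MvPolynomial (Fin (n + 1)) R =>
      ∑ j : Fin (n + 1), φ n R (p j) * C Polynomial.X ^ (j : ℕ)) = fwd n R ∘ b.equivFun.symm := by
    funext p
    rw [Function.comp_apply, Module.Basis.equivFun_symm_apply, map_sum]
    refine Finset.sum_congr rfl fun j _ => ?_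
    have h1 : fwd n R (AdjoinRoot.of (F n R) (p j)) = φ n R (p j) := AdjoinRoot.lift_of (φ_root n R)
    have h2 : fwd n R (AdjoinRoot.root (F n R)) = C Polynomial.X := AdjoinRoot.lift_root (φ_root n R)
    have h3 : b j = AdjoinRoot.root (F n R) ^ (j : ℕ) := by
      simp [b, pb]
    rw [Algebra.smul_def, map_mul, AdjoinRoot.algebraMap_eq, h1, h3, map_pow, h2]
  rw [hfun]
  exact hfwd.comp b.equivFun.symm.bijective

/-- Variables: the polynomial variable is the first one. -/
def ι : MvPolynomial (Fin n) (Polynomial R) ≃ₐ[R] MvPolynomial (Fin (n + 1)) R :=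
  (optionEquivRight R (Fin n)).symm.trans (renameEquiv R (_root_.finSuccEquiv n).symm)

omit [Nontrivial R] in
theorem ι_X (i : Fin n) : ι n R (X i) = X i.succ := by simp [ι]

omit [Nontrivial R] in
theorem ι_T : ι n R (C Polynomial.X) = X 0 := by simp [ι]

omit [Nontrivial R] in
theorem ι_esymm (k : ℕ) : ι n R (f n R k) =
    ((Finset.univ.val : Multiset (Fin n)).map fun i => (X i.succ : MvPolynomial (Fin (n + 1)) R)).esymm k := by
  rw [f, esymm_eq_multiset_esymm, Finset.esymm_map_val, Finset.esymm_map_val, map_sum]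
  refine Finset.sum_congr rfl fun s _ => ?_
  rw [map_prod]
  exact Finset.prod_congr rfl fun i _ => ι_X n R i

omit [Nontrivial R] in
theorem ι_φ (q : MvPolynomial (Fin (n + 1)) R) :
    ι n R (aeval (e n (Polynomial R)) (φ n R q)) = aeval (e (n + 1) R) q := by
  have key : ∀ i : Fin (n + 1), ι n R (aeval (e n (Polynomial R)) (φ.X' n R i)) = e (n + 1) R i := by
    intro i
    have hi := i.2
    have g1 : aeval (e n (Polynomial R)) (if h : (i : ℕ) < n then (X ⟨i, h⟩ : MvPolynomial (Fin n) (Polynomial R)) else 0) =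
        f n R ((i : ℕ) + 1) := by
      by_cases h : (i : ℕ) < n
      · rw [dif_pos h, aeval_X]; simp only [e, f]
      · rw [dif_neg h, map_zero, show (i : ℕ) = n by omega, f_top]
    have g2 : aeval (e n (Polynomial R)) (if h : 0 < (i : ℕ) then (X ⟨(i : ℕ) - 1, by omega⟩ : MvPolynomial (Fin n) (Polynomial R)) else 1) =
        f n R i := by
      by_cases h : 0 < (i : ℕ)
      · rw [dif_pos h, aeval_X]; simp only [e, f]; rw [show (i : ℕ) - 1 + 1 = (i : ℕ) by omega]
      · rw [dif_neg h, map_one, show (i : ℕ) = 0 by omega, f_zero]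
    have g3 : ((Finset.univ : Finset (Fin (n + 1))).val.map (X : Fin (n + 1) → MvPolynomial (Fin (n + 1)) R)) =
        X 0 ::ₘ ((Finset.univ : Finset (Fin n)).val.map fun j => X j.succ) := by
      rw [Fin.univ_succ, Finset.cons_val, Multiset.map_cons, Finset.map_val, Multiset.map_map]
      simp only [Function.comp_def, Function.Embedding.coeFn_mk]
    rw [φ.X', map_add, map_mul, aeval_C, algebraMap_eq, g1, g2, map_add, map_mul, ι_T, ι_esymm, ι_esymm,
      ← esymm_cons_succ, ← g3, e, esymm_eq_multiset_esymm]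
  have : (ι n R).toAlgHom.comp ((AlgHom.restrictScalars R (aeval (e n (Polynomial R)))).comp (φ n R)) =
      aeval (e (n + 1) R) := by
    refine algHom_ext fun i => ?_
    rw [AlgHom.comp_apply, AlgHom.comp_apply, φ, aeval_X, aeval_X]
    exact key i
  exact AlgHom.congr_fun this q

omit [Nontrivial R] in
/-- Splitting of staircase exponents. -/
def split : D (n + 1) ≃ Fin (n + 1) × D n :=
  (Fin.consEquiv fun i : Fin (n + 1) => Fin (n + 1 - (i : ℕ))).symm.trans
    ((finCongr (by simp)).prodCongr (Equiv.piCongrRight fun i => finCongr (by simp)))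

omit [Nontrivial R] in
theorem split_fst (d : D (n + 1)) : (((split n d).1 : Fin (n + 1)) : ℕ) = (d 0 : ℕ) := rfl

omit [Nontrivial R] in
theorem split_snd (d : D (n + 1)) (i : Fin n) : (((split n d).2 i : Fin (n - (i : ℕ))) : ℕ) = (d i.succ : ℕ) := rfl

omit [Nontrivial R] in
theorem comb_bijective : ∀ (n : ℕ) (R : Type u) [CommRing R], Function.Bijective (comb n R) := by
  intro n
  induction n with
  | zero =>
    intro R _
    have : comb 0 R = fun p => p default := by
      funext p
      rw [comb, Fintype.sum_unique, Finset.univ_eq_empty, Finset.prod_empty, mul_one]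
      obtain ⟨r, hr⟩ := C_surjective (Fin 0) (p default)
      rw [← hr, aeval_C, algebraMap_eq]
    rw [this]
    exact (Equiv.funUnique (D 0) _).bijective
  | succ n ih =>
    intro R _
    rcases subsingleton_or_nontrivial R with _ | _
    · exact ⟨fun a b _ => Subsingleton.elim _ _, fun y => ⟨0, Subsingleton.elim _ _⟩⟩
    have hfun : comb (n + 1) R = (ι n R) ∘ comb n (Polynomial R) ∘
        (fun (p : D (n + 1) → MvPolynomial (Fin (n + 1)) R) (d' : D n) =>
          ∑ j : Fin (n + 1), φ n R (p ((split n).symm (j, d'))) * C Polynomial.X ^ (j : ℕ)) := by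
      funext p
      simp only [Function.comp_apply, comb]
      rw [map_sum, ← Equiv.sum_comp (split n).symm, Fintype.sum_prod_type, Finset.sum_comm]
      refine Finset.sum_congr rfl fun d' _ => ?_
      rw [map_mul, map_sum, map_sum, Finset.sum_mul]
      refine Finset.sum_congr rfl fun j _ => ?_
      rw [map_mul, map_mul, map_pow, aeval_C, algebraMap_eq, ι_φ, map_pow, ι_T, map_prod, mul_assoc]
      obtain ⟨d, hd⟩ := (split n).surjective (j, d')
      have hd1 : j = (split n d).1 := (congrArg Prod.fst hd).symm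
      have hd2 : d' = (split n d).2 := (congrArg Prod.snd hd).symm
      rw [← hd, Equiv.symm_apply_apply, Fin.prod_univ_succ, hd1, hd2, split_fst]
      refine congrArg (_ * ·) (congrArg (_ * ·) (Finset.prod_congr rfl fun i _ => ?_))
      rw [map_pow, ι_X, split_snd]
    rw [hfun]
    refine (ι n R).bijective.comp ((ih (Polynomial R)).comp ?_)
    have hb := step_bijective n R
    constructor
    · intro p q hpq
      funext d
      obtain ⟨⟨j, d'⟩, rfl⟩ := (split n).symm.surjective d
      exact congrFun (hb.1 (a₁ := fun j => p ((split n).symm (j, d'))) (a₂ := fun j => q ((split n).symm (j, d')))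
        (congrFun hpq d')) j
    · intro y
      choose g hg using fun d' => hb.2 (y d')
      exact ⟨fun d => g (split n d).2 (split n d).1, funext fun d' => by
        simpa only [Equiv.apply_symm_apply] using hg d'⟩

section Quotient

variable {n R}
variable (a : Fin n → R)

omit [Nontrivial R] in
/-- The ideal of the specialisation. -/
def rel : Ideal (MvPolynomial (Fin n) R) := Ideal.span (Set.range fun i : Fin n => e n R i - C (a i))

omit [Nontrivial R] in
/-- Coordinates modulo the relations. -/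
def θ : MvPolynomial (Fin n) R →ₗ[R] (D n → R) :=
  (LinearMap.pi fun d => (aeval a).toLinearMap.comp (LinearMap.proj d)).comp
    (LinearEquiv.ofBijective
      ({ toFun := comb n R
         map_add' := fun p q => by simp only [comb, Pi.add_apply, map_add, add_mul, Finset.sum_add_distrib]
         map_smul' := fun r p => by
          simp only [comb, Pi.smul_apply, map_smul, RingHom.id_apply, Finset.smul_sum, smul_mul_assoc] } :
        (D n → MvPolynomial (Fin n) R) →ₗ[R] MvPolynomial (Fin n) R) (comb_bijective n R)).symm.toLinearMap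

omit [Nontrivial R] in
theorem θ_comb (p : D n → MvPolynomial (Fin n) R) (d : D n) : θ a (comb n R p) d = aeval a (p d) := by
  unfold θ
  simp only [LinearMap.comp_apply, LinearMap.pi_apply, LinearMap.proj_apply, AlgHom.toLinearMap_apply,
    LinearEquiv.coe_coe]
  congr 1
  exact congrFun ((LinearEquiv.symm_apply_eq _).2 rfl) d

omit [Nontrivial R] in
theorem θ_monomials (α : D n → R) :
    θ a (∑ d : D n, C (α d) * ∏ i : Fin n, X i ^ (d i : ℕ)) = α := by
  funext d
  have : (∑ d : D n, C (α d) * ∏ i : Fin n, (X i : MvPolynomial (Fin n) R) ^ (d i : ℕ)) =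
      comb n R fun d => C (α d) := by simp [comb]
  rw [this, θ_comb, aeval_C]
  rfl

omit [Nontrivial R] in
theorem θ_rel_zero {x : MvPolynomial (Fin n) R} (hx : x ∈ rel a) : θ a x = 0 := by
  rw [rel] at hx
  obtain ⟨c, rfl⟩ := Ideal.mem_span_range_iff_exists_fun.1 hx
  rw [map_sum]
  refine Finset.sum_eq_zero fun i _ => ?_
  obtain ⟨p, hp⟩ := (comb_bijective n R).2 (c i)
  have : c i * (e n R i - C (a i)) = comb n R fun d => (X i - C (a i)) * p d := by
    rw [← hp, comb, comb, Finset.sum_mul]
    refine Finset.sum_congr rfl fun d _ => ?_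
    rw [map_mul, map_sub, aeval_X, aeval_C, algebraMap_eq]
    ring
  funext d
  rw [this, θ_comb, map_mul, map_sub, aeval_X, aeval_C]
  simp

omit [Nontrivial R] in
theorem sub_θ_mem (x : MvPolynomial (Fin n) R) :
    x - ∑ d : D n, C (θ a x d) * ∏ i : Fin n, X i ^ (d i : ℕ) ∈ rel a := by
  obtain ⟨p, rfl⟩ := (comb_bijective n R).2 x
  rw [comb, ← Finset.sum_sub_distrib]
  refine Submodule.sum_mem _ fun d _ => ?_
  rw [← sub_mul, ← comb, θ_comb]
  refine Ideal.mul_mem_right _ _ ?_
  have h : (Ideal.Quotient.mkₐ R (rel a)).comp (aeval (e n R)) =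
      (Algebra.ofId R (MvPolynomial (Fin n) R ⧸ rel a)).comp (aeval a) := by
    refine algHom_ext fun i => ?_
    simp only [AlgHom.comp_apply, aeval_X, Ideal.Quotient.mkₐ_eq_mk, Algebra.ofId_apply]
    rw [← Ideal.Quotient.mk_algebraMap, Ideal.Quotient.eq, algebraMap_eq]
    exact Ideal.subset_span ⟨i, rfl⟩
  have := AlgHom.congr_fun h (p d)
  simp only [AlgHom.comp_apply, Ideal.Quotient.mkₐ_eq_mk, Algebra.ofId_apply, ← Ideal.Quotient.mk_algebraMap,
    Ideal.Quotient.eq, algebraMap_eq] at this
  exact this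

omit [Nontrivial R] in
theorem θ_map_mem (J : Ideal R) {x : MvPolynomial (Fin n) R} (hx : x ∈ J.map (C : R →+* MvPolynomial (Fin n) R))
    (d : D n) : θ a x d ∈ J := by
  rw [Ideal.map] at hx
  suffices ∀ y, θ a (y * x) d ∈ J by simpa using this 1
  induction hx using Submodule.span_induction with
  | mem z hz =>
    obtain ⟨j, hj, rfl⟩ := hz
    intro y
    rw [mul_comm, ← smul_eq_C_mul, map_smul, Pi.smul_apply, smul_eq_mul]
    exact J.mul_mem_right _ hj
  | zero => simp
  | add y z _ _ hy hz => intro w; rw [mul_add, map_add]; exact add_mem (hy w) (hz w)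
  | smul r y _ hy => intro w; rw [smul_eq_mul, ← mul_assoc]; exact hy _

omit [Nontrivial R] in
/-- The quotient is free on the staircase monomials. -/
theorem quot_equiv : Nonempty ((MvPolynomial (Fin n) R ⧸ rel a) ≃ₗ[R] (D n → R)) := by
  have hker : (rel a).restrictScalars R = LinearMap.ker (θ a) := by
    refine le_antisymm (fun x hx => θ_rel_zero a hx) fun x hx => ?_
    have := sub_θ_mem a x
    simpa [LinearMap.mem_ker.1 hx] using this
  exact ⟨(Submodule.Quotient.restrictScalarsEquiv R (rel a)).symm.trans ((Submodule.quotEquivOfEq _ _ hker).trans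
    ((θ a).quotKerEquivOfSurjective fun α => ⟨_, θ_monomials a α⟩))⟩

omit [Nontrivial R] in
theorem card_D (n : ℕ) : Fintype.card (D n) = n.factorial := by
  rw [Fintype.card_pi]
  simp only [Fintype.card_fin]
  rw [Fin.prod_univ_eq_prod_range (fun i => n - i) n, ← Nat.descFactorial_eq_prod_range, Nat.descFactorial_self]

end Quotient

end Groth.Agent.Staircase
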